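import Cfsg.Agent.Omega.NSix.Zero

/-!
# OMEGA N6 / LeafF4, (H2): the END (#19860 (3), helper395)

`Pt B A P ε s`: the even-subset module `A ≤ B`, an involution (or `1`) `s ∈ B`; `z'_k = s z_k`; `B ≤ Z(O₂(C_G(z'_k)))`;
`C_G(r_ij)` permutes `{z'_i, z'_j}`.  THEN `U_kl ≤ O₂(C_G(r_ij))` for all pairs with `i ≠ k, l` (`Pt.h2`).
No Theorem C, no hypothesis on `⋂ U`, any `n ≥ 3`.
-/

set_option autoImplicit false

namespace Cfsg.Agent.Omega.F4Leaf.Mem.End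

open Subgroup Cfsg
open Cfsg.Agent.ZN (o2)
open Cfsg.Agent.MinSimple.VModule (o2_le o2_isPGroup le_normalizer_o2 le_o2)
open Cfsg.Agent.Omega.S5.Def Cfsg.Agent.Omega.NSix.Base Cfsg.Agent.Omega.NSix.Basic
open Cfsg.Agent.Omega.NSix.Zero (WP mem_WP WP_norm o2_conj zpow_cases)

universe u

variable {G : Type u} [Group G] {n : ℕ} {B A P : Subgroup G} {ε : (Fin n → ZMod 2) → G} {s : G}

/-- `C_G(z'_k)` -/
abbrev CP (ε : (Fin n → ZMod 2) → G) (s : G) (k : Fin n) : Subgroup G := centralizer ({s * zz ε k} : Set G)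

/-- The situation of the END. -/
structure Pt (B A P : Subgroup G) (ε : (Fin n → ZMod 2) → G) (s : G) : Prop where
  n3 : 3 ≤ n
  ev : EvenSet n A P ε
  le : A ≤ B
  sB : s ∈ B
  sq : s * s = 1
  ba : ∀ k, B ≤ o2 (CP ε s k)
  bc : ∀ k, ∀ x ∈ o2 (CP ε s k), ∀ b ∈ B, x * b = b * x
  w : ∀ i j, i ≠ j → ∃ w ∈ WP ε i j, Acts ε w (Equiv.swap i j) ∧ w * s = s * w
  swap : ∀ i j, i ≠ j → ∀ g ∈ NN ε i j,
    g * (s * zz ε i) * g⁻¹ = s * zz ε i ∨ g * (s * zz ε i) * g⁻¹ = s * zz ε j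

theorem mem_CP {k : Fin n} {g : G} : g ∈ CP ε s k ↔ g * (s * zz ε k) = s * zz ε k * g :=
  mem_centralizer_singleton_iff

theorem mem_CP' {k : Fin n} {g : G} : g ∈ CP ε s k ↔ g * (s * zz ε k) * g⁻¹ = s * zz ε k := by
  rw [mem_CP, mul_inv_eq_iff_eq_mul]

/-- `Y_k = ⟨B ^ C_G(z'_k)⟩` -/
def YY (B : Subgroup G) (ε : (Fin n → ZMod 2) → G) (s : G) (k : Fin n) : Subgroup G :=
  closure {x | ∃ g ∈ CP ε s k, ∃ b ∈ B, x = g * b * g⁻¹}

theorem B_le_YY (k : Fin n) : B ≤ YY B ε s k := fun b hb =>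
  subset_closure ⟨1, one_mem _, b, hb, by group⟩

theorem YY_conj {k : Fin n} {g x : G} (hg : g ∈ CP ε s k) (hx : x ∈ YY B ε s k) : g * x * g⁻¹ ∈ YY B ε s k := by
  unfold YY at hx ⊢
  induction hx using closure_induction with
  | mem x hx =>
    obtain ⟨h, hh, b, hb, rfl⟩ := hx
    exact subset_closure ⟨g * h, mul_mem hg hh, b, hb, by group⟩
  | one =>
    have : g * 1 * g⁻¹ = (1 : G) := by group
    rw [this]
    exact one_mem _
  | mul a b _ _ ha hb =>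
    have : g * (a * b) * g⁻¹ = (g * a * g⁻¹) * (g * b * g⁻¹) := by group
    rw [this]
    exact mul_mem ha hb
  | inv a _ ha =>
    have : g * a⁻¹ * g⁻¹ = (g * a * g⁻¹)⁻¹ := by group
    rw [this]
    exact inv_mem ha

namespace Pt

variable (h : Pt B A P ε s) {i j k l : Fin n}
include h

theorem bb {a b : G} (ha : a ∈ B) (hb : b ∈ B) : a * b = b * a := by
  have hn := h.n3
  exact h.bc ⟨0, by omega⟩ a (h.ba _ ha) b hb

theorem sz (k : Fin n) : s * zz ε k = zz ε k * s := h.bb h.sB (h.le (h.ev.mem _))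

theorem zB (k : Fin n) : s * zz ε k ∈ B := mul_mem h.sB (h.le (h.ev.mem _))

/-- `z'_i z'_j = r_ij` -/
theorem zp_mul (i j : Fin n) : s * zz ε i * (s * zz ε j) = rr ε i j := by
  rw [h.sz i]
  calc zz ε i * s * (s * zz ε j) = zz ε i * (s * s) * zz ε j := by group
    _ = rr ε i j := by rw [h.sq, mul_one]; rfl

theorem zp_sq (i : Fin n) : s * zz ε i * (s * zz ε i) = 1 := by
  rw [h.zp_mul, rr]
  exact zz_sq h.ev i

theorem YY_o2 (k : Fin n) : YY B ε s k ≤ o2 (CP ε s k) := by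
  refine (closure_le _).2 ?_
  rintro _ ⟨g, hg, b, hb, rfl⟩
  exact (mem_normalizer_iff.mp (le_normalizer_o2 _ hg) b).mp (h.ba k hb)

theorem YY_cen {k : Fin n} {x y : G} (hx : x ∈ o2 (CP ε s k)) (hy : y ∈ YY B ε s k) : x * y = y * x := by
  have key : YY B ε s k ≤ centralizer (o2 (CP ε s k) : Set G) := by
    refine (closure_le _).2 ?_
    rintro _ ⟨g, hg, b, hb, rfl⟩
    rw [SetLike.mem_coe, mem_centralizer_iff]
    intro x hx
    have h1 : g⁻¹ * x * g ∈ o2 (CP ε s k) := by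
      have := (mem_normalizer_iff.mp (le_normalizer_o2 _ (inv_mem hg)) x).mp hx
      rwa [inv_inv] at this
    have h2 := h.bc k _ h1 b hb
    calc x * (g * b * g⁻¹) = g * (g⁻¹ * x * g * b) * g⁻¹ := by group
      _ = g * (b * (g⁻¹ * x * g)) * g⁻¹ := by rw [h2]
      _ = _ := by group
  exact mem_centralizer_iff.mp (key hy) x hx

theorem YY_ab {x y : G} (hx : x ∈ YY B ε s k) (hy : y ∈ YY B ε s k) : x * y = y * x :=
  h.YY_cen (h.YY_o2 k hx) hy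

/-- elements of `N_ij` not fixing `z'_i` exchange `z'_i`, `z'_j` -/
theorem swap' (hij : i ≠ j) {g : G} (hg : g ∈ NN ε i j) :
    (g ∈ CP ε s i ∧ g ∈ CP ε s j) ∨
      (g * (s * zz ε i) * g⁻¹ = s * zz ε j ∧ g * (s * zz ε j) * g⁻¹ = s * zz ε i) := by
  have hr := mem_NN'.1 hg
  rw [← h.zp_mul] at hr
  have e : g * (s * zz ε i * (s * zz ε j)) * g⁻¹ =
      (g * (s * zz ε i) * g⁻¹) * (g * (s * zz ε j) * g⁻¹) := by group
  rw [e] at hr
  rcases h.swap i j hij g hg with h1 | h1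
  · left
    rw [h1] at hr
    exact ⟨mem_CP'.2 h1, mem_CP'.2 (mul_left_cancel hr)⟩
  · right
    refine ⟨h1, ?_⟩
    rw [h1] at hr
    have h2 : s * zz ε j * (g * (s * zz ε j) * g⁻¹) = s * zz ε j * (s * zz ε i) := by
      rw [hr, h.zp_mul, h.zp_mul, rr_symm h.ev]
    exact mul_left_cancel h2

theorem CP_inf_le : CP ε s i ⊓ CP ε s j ≤ NN ε i j := by
  rintro g ⟨h1, h2⟩
  rw [mem_NN', ← h.zp_mul]
  have h1 := mem_CP'.1 h1
  have h2 := mem_CP'.1 h2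
  calc g * (s * zz ε i * (s * zz ε j)) * g⁻¹ =
      (g * (s * zz ε i) * g⁻¹) * (g * (s * zz ε j) * g⁻¹) := by group
    _ = _ := by rw [h1, h2]

/-- `N_ij` normalises `C_i ∩ C_j` -/
theorem inf_conj (hij : i ≠ j) {g x : G} (hg : g ∈ NN ε i j) (hx : x ∈ CP ε s i ⊓ CP ε s j) :
    g * x * g⁻¹ ∈ CP ε s i ⊓ CP ε s j := by
  have hg' : g⁻¹ ∈ NN ε i j := inv_mem hg
  have key : ∀ a b : Fin n, g⁻¹ * (s * zz ε a) * g⁻¹⁻¹ = s * zz ε b → x ∈ CP ε s b → g * x * g⁻¹ ∈ CP ε s a := by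
    intro a b h1 h2
    have h2 := mem_CP.1 h2
    rw [mem_CP]
    rw [inv_inv] at h1
    calc g * x * g⁻¹ * (s * zz ε a) = g * (x * (g⁻¹ * (s * zz ε a) * g)) * g⁻¹ := by group
      _ = g * (g⁻¹ * (s * zz ε a) * g * x) * g⁻¹ := by rw [h1, h2]
      _ = _ := by group
  rcases h.swap' hij hg' with ⟨h1, h2⟩ | ⟨h1, h2⟩
  · exact ⟨key i i (mem_CP'.1 h1) hx.1, key j j (mem_CP'.1 h2) hx.2⟩
  · exact ⟨key i j h1 hx.2, key j i h2 hx.1⟩

/-- `O₂(C_i) ∩ C_j ≤ O₂(N_ij)` -/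
theorem o2_inf_le (hij : i ≠ j) : o2 (CP ε s i) ⊓ CP ε s j ≤ o2 (NN ε i j) := by
  have h1 : o2 (CP ε s i) ⊓ CP ε s j ≤ o2 (CP ε s i ⊓ CP ε s j) := by
    refine le_o2 (inf_le_inf_right _ (o2_le _)) ((o2_isPGroup _).to_le inf_le_left) ?_
    intro g hg
    rw [mem_normalizer_iff]
    intro x
    constructor
    · rintro ⟨hx1, hx2⟩
      exact ⟨(mem_normalizer_iff.mp (le_normalizer_o2 _ hg.1) x).mp hx1,
        (CP ε s j).mul_mem ((CP ε s j).mul_mem hg.2 hx2) ((CP ε s j).inv_mem hg.2)⟩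
    · rintro ⟨hx1, hx2⟩
      refine ⟨(mem_normalizer_iff.mp (le_normalizer_o2 _ hg.1) x).mpr hx1, ?_⟩
      have := (CP ε s j).mul_mem ((CP ε s j).mul_mem ((CP ε s j).inv_mem hg.2) hx2) hg.2
      have e : g⁻¹ * (g * x * g⁻¹) * g = x := by group
      rwa [e] at this
  refine h1.trans (le_o2 ((o2_le _).trans h.CP_inf_le) (o2_isPGroup _) ?_)
  intro g hg
  have hc : ∀ x ∈ CP ε s i ⊓ CP ε s j, g * x * g⁻¹ ∈ CP ε s i ⊓ CP ε s j := fun x hx => h.inf_conj hij hg hx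
  have hc' : ∀ x ∈ CP ε s i ⊓ CP ε s j, g⁻¹ * x * g ∈ CP ε s i ⊓ CP ε s j := fun x hx => by
    have := h.inf_conj hij (inv_mem hg) hx
    rwa [inv_inv] at this
  rw [mem_normalizer_iff]
  intro x
  refine ⟨fun hx => o2_conj hc hc' hx, fun hx => ?_⟩
  have h2 := o2_conj (g := g⁻¹) (X := CP ε s i ⊓ CP ε s j) (Y := CP ε s i ⊓ CP ε s j)
    (by simpa using hc') (by simpa using hc) hx
  have e : g⁻¹ * (g * x * g⁻¹) * g⁻¹⁻¹ = x := by group
  rwa [e] at h2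

/-- `Y_i ≤ O₂(N_ij)` -/
theorem YY_le (hij : i ≠ j) : YY B ε s i ≤ o2 (NN ε i j) := by
  intro y hy
  exact h.o2_inf_le hij ⟨h.YY_o2 i hy, mem_CP.2 (h.YY_ab hy (B_le_YY i (h.zB j)))⟩

/-- `U_ij ≤ Y_i` -/
theorem UU_le (hij : i ≠ j) : UU ε i j ≤ YY B ε s i := by
  unfold UU
  refine (closure_le _).2 ?_
  rintro _ ⟨g, hg, k, hki, hkj, rfl⟩
  obtain ⟨w, hw, hws, hwc⟩ := h.w i j hij
  rcases h.swap' hij hg with ⟨h1, -⟩ | ⟨h1, h2⟩
  · exact subset_closure ⟨g, h1, _, h.le (h.ev.mem _), rfl⟩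
  · refine subset_closure ⟨g * w⁻¹, ?_, zz ε k, h.le (h.ev.mem _), ?_⟩
    · rw [mem_CP']
      have h3 : w⁻¹ * (s * zz ε i) * w = s * zz ε j := by
        have h4 := zz_conj hws j
        rw [Equiv.swap_apply_right] at h4
        rw [← h4]
        calc w⁻¹ * (s * (w * zz ε j * w⁻¹)) * w = w⁻¹ * (s * w) * zz ε j := by group
          _ = w⁻¹ * (w * s) * zz ε j := by rw [hwc]
          _ = _ := by group
      calc g * w⁻¹ * (s * zz ε i) * (g * w⁻¹)⁻¹ = g * (w⁻¹ * (s * zz ε i) * w) * g⁻¹ := by group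
        _ = _ := by rw [h3, h2]
    · have h4 := zz_conj hws k
      rw [Equiv.swap_apply_of_ne_of_ne hki hkj] at h4
      have h5 : w⁻¹ * zz ε k * w = zz ε k := by
        rw [← h4]
        calc w⁻¹ * (w * zz ε k * w⁻¹) * w = zz ε k := by group
          _ = w * zz ε k * w⁻¹ := h4.symm
      calc g * zz ε k * g⁻¹ = g * (w⁻¹ * zz ε k * w) * g⁻¹ := by rw [h5]
        _ = _ := by group

theorem UU_le' (hij : i ≠ j) : UU ε i j ≤ YY B ε s j := by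
  rw [UU_symm h.ev]
  exact h.UU_le hij.symm

/-- `U_kl` centralises `B` -/
theorem UU_cen (hkl : k ≠ l) {y b : G} (hy : y ∈ UU ε k l) (hb : b ∈ B) : y * b = b * y :=
  h.YY_ab (h.UU_le hkl hy) (B_le_YY k hb)

theorem cenB_NN (i j : Fin n) {y : G} (hy : ∀ b ∈ B, y * b = b * y) : y ∈ NN ε i j :=
  mem_NN.2 (hy _ (h.le (rr_mem h.ev i j)))

/-- `[Y_i, U_kl] ≤ ⟨r_il⟩` -/
theorem cm_mem (hkl : k ≠ l) (hik : i ≠ k) (hil : i ≠ l) {t y : G} (ht : t ∈ YY B ε s i) (hy : y ∈ UU ε k l) :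
    y * t * y⁻¹ * t⁻¹ ∈ zpowers (rr ε i l) := by
  obtain ⟨w, hw, hws, -⟩ := h.w i l hil
  -- `y' = w y w⁻¹ ∈ Y_i`
  have h1 : w * y * w⁻¹ ∈ YY B ε s i := by
    have h2 := UU_conj hws hy
    rw [Equiv.swap_apply_of_ne_of_ne hik.symm hkl, Equiv.swap_apply_right] at h2
    exact h.UU_le' hik.symm h2
  have h2 : w * (y * w⁻¹ * y⁻¹) ∈ WP ε i l :=
    mul_mem hw (WP_norm (h.cenB_NN i l fun b hb => h.UU_cen hkl hy hb) (inv_mem hw))
  have h3 : (w * (y * w⁻¹ * y⁻¹))⁻¹ ∈ WP ε i l := inv_mem h2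
  have h4 := (mem_WP.1 h3).2 t (h.YY_le hil ht)
  have h5 : w * y * w⁻¹ * t = t * (w * y * w⁻¹) := h.YY_ab h1 ht
  have e : y * t * y⁻¹ * t⁻¹ =
      (w * (y * w⁻¹ * y⁻¹))⁻¹ * (w * y * w⁻¹ * t * (w * y * w⁻¹)⁻¹) * (w * (y * w⁻¹ * y⁻¹))⁻¹⁻¹ * t⁻¹ := by
    group
  have e2 : w * y * w⁻¹ * t * (w * y * w⁻¹)⁻¹ = t := by
    rw [h5]
    group
  rw [e, e2]
  exact h4

/-- `U_kl` centralises `Y_i` -/
theorem UU_YY (hkl : k ≠ l) (hik : i ≠ k) (hil : i ≠ l) {t y : G} (ht : t ∈ YY B ε s i) (hy : y ∈ UU ε k l) :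
    y * t = t * y := by
  have h1 := h.cm_mem hkl hik hil ht hy
  have h2 := h.cm_mem hkl.symm hil hik ht (UU_symm h.ev k l ▸ hy)
  have h3 : y * t * y⁻¹ * t⁻¹ = 1 := by
    rcases zpow_cases (rr_sq h.ev i l) h1 with h3 | h3
    · exact h3
    · rcases zpow_cases (rr_sq h.ev i k) h2 with h4 | h4
      · exact h4
      · exfalso
        have h5 : zz ε i * zz ε k = zz ε i * zz ε l := by
          change rr ε i k = rr ε i l
          rw [← h3, ← h4]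
        exact hkl (h.ev.single_inj h.n3 (mul_left_cancel h5))
  rw [mul_inv_eq_one, mul_inv_eq_iff_eq_mul] at h3
  exact h3

/-- **THE END** -/
theorem h2 (hij : i ≠ j) (hkl : k ≠ l) (hik : i ≠ k) (hil : i ≠ l) : UU ε k l ≤ o2 (NN ε i j) := by
  -- `E = C_G(Y_i)`
  set E : Subgroup G := centralizer (YY B ε s i : Set G) with hE
  have hEmem : ∀ {x : G}, x ∈ E ↔ ∀ t ∈ YY B ε s i, t * x = x * t := fun {x} => mem_centralizer_iff
  have hEB : ∀ x ∈ E, ∀ b ∈ B, x * b = b * x := fun x hx b hb => (hEmem.1 hx b (B_le_YY i hb)).symm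
  have h1 : UU ε k l ≤ E := fun y hy => hEmem.2 fun t ht => (h.UU_YY hkl hik hil ht hy).symm
  have h2 : UU ε k l ≤ o2 E := by
    refine le_o2 h1 ((o2_isPGroup (CP ε s k)).to_le ((h.UU_le hkl).trans (h.YY_o2 k))) ?_
    intro g hg
    have hgN : g ∈ NN ε k l := h.cenB_NN k l (hEB g hg)
    rw [mem_normalizer_iff]
    refine fun x => ⟨fun hx => UU_normal hgN hx, fun hx => ?_⟩
    have h3 := UU_normal (inv_mem hgN) hx
    have e : g⁻¹ * (g * x * g⁻¹) * g⁻¹⁻¹ = x := by group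
    rwa [e] at h3
  have hEC : E ≤ CP ε s i := fun x hx => mem_CP.2 (hEB x hx _ (h.zB i))
  have hCE : ∀ g ∈ CP ε s i, ∀ x ∈ E, g * x * g⁻¹ ∈ E := by
    intro g hg x hx
    rw [hEmem]
    intro t ht
    have h3 := YY_conj (inv_mem hg) ht
    rw [inv_inv] at h3
    have h4 := hEmem.1 hx _ h3
    calc t * (g * x * g⁻¹) = g * (g⁻¹ * t * g * x) * g⁻¹ := by group
      _ = g * (x * (g⁻¹ * t * g)) * g⁻¹ := by rw [h4]
      _ = _ := by group
  have h3 : o2 E ≤ o2 (CP ε s i) := by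
    refine le_o2 ((o2_le _).trans hEC) (o2_isPGroup _) ?_
    intro g hg
    rw [mem_normalizer_iff]
    intro x
    refine ⟨fun hx => o2_conj (hCE g hg) (fun y hy => ?_) hx, fun hx => ?_⟩
    · have := hCE g⁻¹ (inv_mem hg) y hy
      rwa [inv_inv] at this
    · have h4 := o2_conj (g := g⁻¹) (X := E) (Y := E) (hCE g⁻¹ (inv_mem hg)) (fun y hy => by
        rw [inv_inv]
        exact hCE g hg y hy) hx
      have e : g⁻¹ * (g * x * g⁻¹) * g⁻¹⁻¹ = x := by group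
      rwa [e] at h4
  intro y hy
  exact h.o2_inf_le hij ⟨h3 (h2 hy), mem_CP.2 (h.UU_cen hkl hy (h.zB j))⟩

end Pt

end Cfsg.Agent.Omega.F4Leaf.Mem.End
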